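import Mathlib
set_option linter.all false

/-!
Transvections `1 + a φᵀ` in `SL ι F` and their images in `PSL ι F`.
-/

set_option autoImplicit false
set_option linter.unusedSectionVars false

namespace Cfsg.Agent.ClassicalGeometry.AutPSL.Root

open Matrix

variable {ι F : Type*} [Fintype ι] [DecidableEq ι] [Field F]

/-- The transvection `1 + a φᵀ` as an element of `SL ι F`. -/
def tr (a φ : ι → F) (h : φ ⬝ᵥ a = 0) : Matrix.SpecialLinearGroup ι F :=
  ⟨1 + vecMulVec a φ, by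
    rw [vecMulVec_eq Unit, det_one_add_replicateCol_mul_replicateRow, h, add_zero]⟩

theorem coe_tr (a φ : ι → F) (h : φ ⬝ᵥ a = 0) :
    (tr a φ h : Matrix ι ι F) = 1 + vecMulVec a φ := rfl

theorem tr_mulVec (a φ : ι → F) (h : φ ⬝ᵥ a = 0) (x : ι → F) :
    (tr a φ h : Matrix ι ι F) *ᵥ x = x + (φ ⬝ᵥ x) • a := by
  rw [coe_tr, add_mulVec, one_mulVec, vecMulVec_mulVec, op_smul_eq_smul]

theorem sl_ext {A B : Matrix.SpecialLinearGroup ι F}
    (h : ∀ x, (A : Matrix ι ι F) *ᵥ x = (B : Matrix ι ι F) *ᵥ x) : A = B := by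
  apply Subtype.ext
  exact Matrix.mulVec_injective (funext h)

theorem sl_mul_mulVec (A B : Matrix.SpecialLinearGroup ι F) (x : ι → F) :
    ((A * B : Matrix.SpecialLinearGroup ι F) : Matrix ι ι F) *ᵥ x
      = (A : Matrix ι ι F) *ᵥ ((B : Matrix ι ι F) *ᵥ x) := by
  rw [Matrix.SpecialLinearGroup.coe_mul, mulVec_mulVec]

theorem tr_mul_same_center (a φ ψ : ι → F) (h : φ ⬝ᵥ a = 0) (h' : ψ ⬝ᵥ a = 0) :
    tr a φ h * tr a ψ h' = tr a (φ + ψ) (by rw [add_dotProduct, h, h', add_zero]) := by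
  apply sl_ext
  intro x
  rw [sl_mul_mulVec, tr_mulVec, tr_mulVec, tr_mulVec, dotProduct_add, dotProduct_smul, h,
    add_dotProduct, smul_zero, add_zero]
  module

theorem tr_mul_same_axis (a b φ : ι → F) (h : φ ⬝ᵥ a = 0) (h' : φ ⬝ᵥ b = 0) :
    tr a φ h * tr b φ h' = tr (a + b) φ (by rw [dotProduct_add, h, h', add_zero]) := by
  apply sl_ext
  intro x
  rw [sl_mul_mulVec, tr_mulVec, tr_mulVec, tr_mulVec, dotProduct_add, dotProduct_smul, h',
    smul_add]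
  simp only [smul_eq_mul, mul_zero, add_zero]
  abel

theorem transvection_eq_tr {i j : ι} (hij : i ≠ j) (c : F) :
    Matrix.SpecialLinearGroup.transvection hij c
      = tr (c • Pi.single i 1) (Pi.single j 1) (by
          rw [dotProduct_smul, single_dotProduct, Pi.single_eq_of_ne hij.symm]; simp) := by
  apply Subtype.ext
  rw [coe_tr]
  change (1 : Matrix ι ι F) + single i j c = _
  congr 1
  ext r s
  simp only [single_apply, vecMulVec_apply, Pi.smul_apply, Pi.single_apply, smul_eq_mul]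
  by_cases h1 : i = r <;> by_cases h2 : j = s <;> simp [h1, h2, eq_comm]

/-- The projection `SL → PSL`. -/
abbrev pr : Matrix.SpecialLinearGroup ι F →* Matrix.ProjectiveSpecialLinearGroup ι F :=
  QuotientGroup.mk' (Subgroup.center (Matrix.SpecialLinearGroup ι F))

theorem pr_surjective : Function.Surjective (pr : Matrix.SpecialLinearGroup ι F →* _) :=
  QuotientGroup.mk'_surjective _

theorem pr_eq_one_iff (x : Matrix.SpecialLinearGroup ι F) :
    pr x = 1 ↔ x ∈ Subgroup.center (Matrix.SpecialLinearGroup ι F) :=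
  QuotientGroup.eq_one_iff x

/-- Equality in `PSL` means equality up to a scalar. -/
theorem exists_smul_of_pr_eq {x y : Matrix.SpecialLinearGroup ι F} (h : pr x = pr y) :
    ∃ c : F, (y : Matrix ι ι F) = c • (x : Matrix ι ι F) := by
  obtain ⟨z, hz, hzy⟩ := (QuotientGroup.mk'_eq_mk' _).1 h
  obtain ⟨r, -, hr⟩ := Matrix.SpecialLinearGroup.mem_center_iff.1 hz
  refine ⟨r, ?_⟩
  rw [← hzy, Matrix.SpecialLinearGroup.coe_mul, ← hr, scalar_apply, ← smul_one_eq_diagonal,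
    Matrix.mul_smul, mul_one]

theorem pr_eq_of_smul {x y : Matrix.SpecialLinearGroup ι F} {c : F}
    (h : (y : Matrix ι ι F) = c • (x : Matrix ι ι F)) : pr x = pr y := by
  refine (QuotientGroup.mk'_eq_mk' _).2 ⟨x⁻¹ * y, ?_, by group⟩
  have h1 : ((x⁻¹ * y : Matrix.SpecialLinearGroup ι F) : Matrix ι ι F) = scalar ι c := by
    rw [Matrix.SpecialLinearGroup.coe_mul, h, Matrix.mul_smul, ← Matrix.SpecialLinearGroup.coe_mul, inv_mul_cancel,
      Matrix.SpecialLinearGroup.coe_one, scalar_apply, smul_one_eq_diagonal]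
  rw [Matrix.SpecialLinearGroup.mem_center_iff]
  refine ⟨c, ?_, h1.symm⟩
  have h2 := (x⁻¹ * y : Matrix.SpecialLinearGroup ι F).2
  have h3 : (scalar ι c).det = 1 := by rw [← h1]; exact h2
  rw [scalar_apply, det_diagonal, Finset.prod_const, Finset.card_univ] at h3
  exact h3

/-- A unipotent comparison: if `x ≠ 0` and `x = c (x + ψ(x) b)` with `ψ(b) = 0` then `c = 1`. -/
theorem scalar_eq_one {x b ψ : ι → F} {c : F} (hx : x ≠ 0) (h : ψ ⬝ᵥ b = 0)
    (he : x = c • (x + (ψ ⬝ᵥ x) • b)) : c = 1 := by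
  have h1 : ψ ⬝ᵥ x = c * (ψ ⬝ᵥ x) := by
    conv_lhs => rw [he]
    rw [dotProduct_smul, dotProduct_add, dotProduct_smul, h]
    simp
  by_cases h2 : ψ ⬝ᵥ x = 0
  · rw [h2, zero_smul, add_zero] at he
    by_contra hc
    apply hx
    have h3 : (1 - c) • x = 0 := by
      rw [sub_smul, one_smul, sub_eq_zero]
      exact he
    rcases smul_eq_zero.1 h3 with h4 | h4
    · exact absurd (sub_eq_zero.1 h4).symm hc
    · exact h4
  · have h3 : (1 : F) * (ψ ⬝ᵥ x) = c * (ψ ⬝ᵥ x) := by rw [one_mul]; exact h1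
    exact (mul_right_cancel₀ h2 h3).symm

theorem tr_eq_of_pr_eq {a φ b ψ : ι → F} {h : φ ⬝ᵥ a = 0} {h' : ψ ⬝ᵥ b = 0}
    (he : pr (tr a φ h) = pr (tr b ψ h')) : tr a φ h = tr b ψ h' := by
  rcases isEmpty_or_nonempty ι with hι | ⟨⟨i⟩⟩
  · exact Subsingleton.elim _ _
  obtain ⟨c, hc⟩ := exists_smul_of_pr_eq he.symm
  -- find a nonzero vector killed by `φ`
  have hx : ∃ x : ι → F, x ≠ 0 ∧ (φ ⬝ᵥ x) • a = 0 := by
    by_cases ha : a = 0
    · refine ⟨Pi.single i 1, ?_, by rw [ha, smul_zero]⟩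
      simp
    · exact ⟨a, ha, by rw [h, zero_smul]⟩
  obtain ⟨x, hx, hφ⟩ := hx
  have h1 : x = c • (x + (ψ ⬝ᵥ x) • b) := by
    have := congrArg (fun M => M *ᵥ x) hc
    simp only [smul_mulVec, tr_mulVec, hφ, add_zero] at this
    exact this
  have h2 := scalar_eq_one hx h' h1
  rw [h2, one_smul] at hc
  exact Subtype.ext hc

theorem tr_eq_iff {a φ b ψ : ι → F} {h : φ ⬝ᵥ a = 0} {h' : ψ ⬝ᵥ b = 0} :
    tr a φ h = tr b ψ h' ↔ vecMulVec a φ = vecMulVec b ψ := by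
  constructor
  · intro he
    have := congrArg Subtype.val he
    exact add_left_cancel this
  · intro he
    apply Subtype.ext
    rw [coe_tr, coe_tr, he]

/-- Nonzero vectors with proportional pairings. -/
theorem exists_smul_of_vecMulVec_eq {a φ b ψ : ι → F} (hφ : φ ≠ 0)
    (h : vecMulVec a φ = vecMulVec b ψ) : ∃ c : F, a = c • b := by
  obtain ⟨j, hj⟩ := Function.ne_iff.1 hφ
  refine ⟨(φ j)⁻¹ * ψ j, ?_⟩
  ext i
  have := congrFun (congrFun h i) j
  rw [vecMulVec_apply, vecMulVec_apply] at this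
  rw [Pi.smul_apply, smul_eq_mul]
  have hj' : φ j ≠ 0 := hj
  field_simp
  linear_combination this

theorem exists_smul_of_vecMulVec_eq' {a φ b ψ : ι → F} (ha : a ≠ 0)
    (h : vecMulVec a φ = vecMulVec b ψ) : ∃ c : F, φ = c • ψ := by
  obtain ⟨j, hj⟩ := Function.ne_iff.1 ha
  refine ⟨(a j)⁻¹ * b j, ?_⟩
  ext i
  have := congrFun (congrFun h j) i
  rw [vecMulVec_apply, vecMulVec_apply] at this
  rw [Pi.smul_apply, smul_eq_mul]
  have hj' : a j ≠ 0 := hj
  field_simp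
  linear_combination this

/-- If every vector killed by `ψ` is killed by `φ` then `φ` is a multiple of `ψ`. -/
theorem exists_smul_of_ker_le {φ ψ : ι → F} (hψ : ψ ≠ 0)
    (h : ∀ x, ψ ⬝ᵥ x = 0 → φ ⬝ᵥ x = 0) : ∃ c : F, φ = c • ψ := by
  obtain ⟨j, hj⟩ := Function.ne_iff.1 hψ
  have hj' : ψ j ≠ 0 := hj
  refine ⟨φ j * (ψ j)⁻¹, ?_⟩
  ext i
  have h1 := h (ψ j • Pi.single i 1 - ψ i • Pi.single j 1) (by
    rw [dotProduct_sub, dotProduct_smul, dotProduct_smul, dotProduct_single, dotProduct_single]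
    simp; ring)
  rw [dotProduct_sub, dotProduct_smul, dotProduct_smul, dotProduct_single,
    dotProduct_single] at h1
  simp only [mul_one, smul_eq_mul] at h1
  rw [Pi.smul_apply, smul_eq_mul]
  field_simp
  linear_combination h1

/-- In dimension at least three two linear forms have a common nonzero zero. -/
theorem exists_common_zero (hι : 3 ≤ Fintype.card ι) (φ ψ : ι → F) :
    ∃ x : ι → F, x ≠ 0 ∧ φ ⬝ᵥ x = 0 ∧ ψ ⬝ᵥ x = 0 := by
  let f : (ι → F) →ₗ[F] (Fin 2 → F) :=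
    { toFun := fun x => ![φ ⬝ᵥ x, ψ ⬝ᵥ x]
      map_add' := fun x y => by
        ext i; fin_cases i <;> simp [dotProduct_add]
      map_smul' := fun c x => by
        ext i; fin_cases i <;> simp [dotProduct_smul] }
  have hf : LinearMap.ker f ≠ ⊥ := by
    apply LinearMap.ker_ne_bot_of_finrank_lt
    rw [Module.finrank_fintype_fun_eq_card, Module.finrank_fintype_fun_eq_card, Fintype.card_fin]
    omega
  obtain ⟨x, hx, hx0⟩ := Submodule.exists_mem_ne_zero_of_ne_bot hf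
  have h1 : f x = 0 := hx
  refine ⟨x, hx0, ?_, ?_⟩
  · exact congrFun h1 0
  · exact congrFun h1 1

/-- If the product of two non-trivial transvections is (projectively) a transvection, they share
the centre or the axis. -/
theorem parallel_of_pr_mul_eq (hι : 3 ≤ Fintype.card ι) {a φ b ψ d χ : ι → F}
    (hb : b ≠ 0) (hφ0 : φ ≠ 0) (hψ0 : ψ ≠ 0)
    {h : φ ⬝ᵥ a = 0} {h' : ψ ⬝ᵥ b = 0} {h'' : χ ⬝ᵥ d = 0}
    (he : pr (tr a φ h * tr b ψ h') = pr (tr d χ h'')) :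
    (∃ c : F, a = c • b) ∨ (∃ c : F, φ = c • ψ) := by
  obtain ⟨c, hc⟩ := exists_smul_of_pr_eq he.symm
  have hmul : ∀ x : ι → F, (x + (ψ ⬝ᵥ x) • b) + (φ ⬝ᵥ (x + (ψ ⬝ᵥ x) • b)) • a
      = c • (x + (χ ⬝ᵥ x) • d) := by
    intro x
    have := congrArg (fun M => M *ᵥ x) hc
    simp only [smul_mulVec] at this
    rw [sl_mul_mulVec, tr_mulVec, tr_mulVec, tr_mulVec] at this
    exact this
  obtain ⟨x, hx, hφx, hψx⟩ := exists_common_zero hι φ ψ
  have hc1 : c = 1 := by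
    apply scalar_eq_one hx h''
    have := hmul x
    rw [hψx, zero_smul, add_zero, hφx, zero_smul, add_zero] at this
    exact this
  subst hc1
  have hmul' : ∀ x : ι → F, (ψ ⬝ᵥ x) • b + (φ ⬝ᵥ x + (ψ ⬝ᵥ x) * (φ ⬝ᵥ b)) • a
      = (χ ⬝ᵥ x) • d := by
    intro x
    have := hmul x
    rw [one_smul, dotProduct_add, dotProduct_smul, add_assoc] at this
    exact add_left_cancel this
  by_contra hcon
  push Not at hcon
  obtain ⟨hab, hφψ⟩ := hcon
  -- `x` with `ψ x = 0`, `φ x ≠ 0`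
  have h1 : ∃ x, ψ ⬝ᵥ x = 0 ∧ φ ⬝ᵥ x ≠ 0 := by
    by_contra hno
    push Not at hno
    obtain ⟨c, hc⟩ := exists_smul_of_ker_le hψ0 hno
    exact hφψ c hc
  obtain ⟨x, hx1, hx2⟩ := h1
  have h2 := hmul' x
  rw [hx1, zero_smul, zero_add, zero_mul, add_zero] at h2
  have hψφ : ∀ c : F, ψ ≠ c • φ := by
    intro c hc
    by_cases hc0 : c = 0
    · rw [hc0, zero_smul] at hc
      exact hψ0 hc
    · apply hφψ c⁻¹
      rw [hc, smul_smul, inv_mul_cancel₀ hc0, one_smul]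
  -- `y` with `ψ y ≠ 0`, `φ y + ψ y * φ b = 0`
  have h3 : ∃ y, (φ + (φ ⬝ᵥ b) • ψ) ⬝ᵥ y = 0 ∧ ψ ⬝ᵥ y ≠ 0 := by
    by_contra hno
    push Not at hno
    have hne : φ + (φ ⬝ᵥ b) • ψ ≠ 0 := by
      intro h0
      apply hφψ (-(φ ⬝ᵥ b))
      rw [neg_smul]
      exact eq_neg_of_add_eq_zero_left h0
    obtain ⟨c, hc⟩ := exists_smul_of_ker_le hne hno
    have h5 : (1 - c * (φ ⬝ᵥ b)) • ψ = c • φ := by
      have h6 : ψ = c • φ + (c * (φ ⬝ᵥ b)) • ψ := by
        conv_lhs => rw [hc]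
        rw [smul_add, smul_smul]
      rw [sub_smul, one_smul, sub_eq_iff_eq_add]
      exact h6
    by_cases h6 : 1 - c * (φ ⬝ᵥ b) = 0
    · rw [h6, zero_smul] at h5
      rcases smul_eq_zero.1 h5.symm with h7 | h7
      · rw [h7] at h6
        simp at h6
      · exact hφ0 h7
    · apply hψφ ((1 - c * (φ ⬝ᵥ b))⁻¹ * c)
      rw [← smul_smul, ← h5, smul_smul, inv_mul_cancel₀ h6, one_smul]
  obtain ⟨y, hy1, hy2⟩ := h3
  have h4 := hmul' y
  rw [add_dotProduct, smul_dotProduct, smul_eq_mul] at hy1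
  rw [mul_comm (ψ ⬝ᵥ y), hy1, zero_smul, add_zero] at h4
  -- `a` and `b` are multiples of `d`
  have hd : χ ⬝ᵥ y ≠ 0 := by
    intro h0
    rw [h0, zero_smul] at h4
    rcases smul_eq_zero.1 h4 with h7 | h7
    · exact hy2 h7
    · exact hb h7
  apply hab ((φ ⬝ᵥ x)⁻¹ * (χ ⬝ᵥ x) * (χ ⬝ᵥ y)⁻¹ * (ψ ⬝ᵥ y))
  rw [← smul_smul, h4, smul_smul, mul_assoc _ (χ ⬝ᵥ y)⁻¹, inv_mul_cancel₀ hd, mul_one, ← smul_smul,
    ← h2, smul_smul, inv_mul_cancel₀ hx2, one_smul]

end Cfsg.Agent.ClassicalGeometry.AutPSL.Root
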