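import Mathlib
import Cfsg.Agent.ClassicalGeometry.AutPSL.Root
set_option linter.all false

/-!
Automorphisms of `SL` and `PSL`: conjugation by `GL`, field automorphisms, inverse transpose.
-/

set_option autoImplicit false
set_option linter.unusedSectionVars false

namespace Cfsg.Agent.ClassicalGeometry.AutPSL.Auto

open Matrix
open Cfsg.Agent.ClassicalGeometry.AutPSL.Root

variable {ι F : Type*} [Fintype ι] [DecidableEq ι] [Field F]

/-- Conjugation by an element of `GL` as an automorphism of `SL`. -/
def cj : GL ι F →* MulAut (Matrix.SpecialLinearGroup ι F) where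
  toFun A :=
    { toFun := fun g => ⟨(A : Matrix ι ι F) * g.1 * ((A⁻¹ : GL ι F) : Matrix ι ι F), by
        rw [det_mul, det_mul, g.2, mul_one, ← det_mul, ← Units.val_mul, mul_inv_cancel,
          Units.val_one, det_one]⟩
      invFun := fun g => ⟨((A⁻¹ : GL ι F) : Matrix ι ι F) * g.1 * (A : Matrix ι ι F), by
        rw [det_mul, det_mul, g.2, mul_one, ← det_mul, ← Units.val_mul, inv_mul_cancel,
          Units.val_one, det_one]⟩
      left_inv := fun g => by
        apply Subtype.ext
        change ((A⁻¹ : GL ι F) : Matrix ι ι F) * ((A : Matrix ι ι F) * g.1 *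
          ((A⁻¹ : GL ι F) : Matrix ι ι F)) * (A : Matrix ι ι F) = g.1
        rw [mul_assoc (A : Matrix ι ι F), ← mul_assoc ((A⁻¹ : GL ι F) : Matrix ι ι F),
          ← Units.val_mul, inv_mul_cancel, Units.val_one, one_mul, mul_assoc, ← Units.val_mul,
          inv_mul_cancel, Units.val_one, mul_one]
      right_inv := fun g => by
        apply Subtype.ext
        change (A : Matrix ι ι F) * (((A⁻¹ : GL ι F) : Matrix ι ι F) * g.1 *
          (A : Matrix ι ι F)) * ((A⁻¹ : GL ι F) : Matrix ι ι F) = g.1
        rw [mul_assoc ((A⁻¹ : GL ι F) : Matrix ι ι F), ← mul_assoc (A : Matrix ι ι F),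
          ← Units.val_mul, mul_inv_cancel, Units.val_one, one_mul, mul_assoc, ← Units.val_mul,
          mul_inv_cancel, Units.val_one, mul_one]
      map_mul' := fun g h => by
        apply Subtype.ext
        change (A : Matrix ι ι F) * (g.1 * h.1) * ((A⁻¹ : GL ι F) : Matrix ι ι F)
          = ((A : Matrix ι ι F) * g.1 * ((A⁻¹ : GL ι F) : Matrix ι ι F)) *
            ((A : Matrix ι ι F) * h.1 * ((A⁻¹ : GL ι F) : Matrix ι ι F))
        have h1 : ((A⁻¹ : GL ι F) : Matrix ι ι F) * (A : Matrix ι ι F) = 1 := by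
          rw [← Units.val_mul, inv_mul_cancel, Units.val_one]
        calc (A : Matrix ι ι F) * (g.1 * h.1) * ((A⁻¹ : GL ι F) : Matrix ι ι F)
            = (A : Matrix ι ι F) * g.1 * 1 * h.1 * ((A⁻¹ : GL ι F) : Matrix ι ι F) := by
              simp only [mul_one, mul_assoc]
          _ = _ := by rw [← h1]; simp only [mul_assoc] }
  map_one' := by
    apply MulEquiv.ext
    intro g
    apply Subtype.ext
    change ((1 : GL ι F) : Matrix ι ι F) * g.1 * (((1 : GL ι F)⁻¹ : GL ι F) : Matrix ι ι F) = g.1
    rw [inv_one, Units.val_one, one_mul, mul_one]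
  map_mul' A B := by
    apply MulEquiv.ext
    intro g
    apply Subtype.ext
    change ((A * B : GL ι F) : Matrix ι ι F) * g.1 * (((A * B)⁻¹ : GL ι F) : Matrix ι ι F)
      = (A : Matrix ι ι F) * ((B : Matrix ι ι F) * g.1 * ((B⁻¹ : GL ι F) : Matrix ι ι F)) *
        ((A⁻¹ : GL ι F) : Matrix ι ι F)
    rw [_root_.mul_inv_rev, Units.val_mul, Units.val_mul]
    simp only [mul_assoc]

theorem coe_cj (A : GL ι F) (g : Matrix.SpecialLinearGroup ι F) :
    (cj A g : Matrix ι ι F) = (A : Matrix ι ι F) * g * ((A⁻¹ : GL ι F) : Matrix ι ι F) := rfl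

theorem vecMul_inv_dotProduct (A : GL ι F) (a φ : ι → F) :
    (φ ᵥ* ((A⁻¹ : GL ι F) : Matrix ι ι F)) ⬝ᵥ ((A : Matrix ι ι F) *ᵥ a) = φ ⬝ᵥ a := by
  rw [← dotProduct_mulVec, mulVec_mulVec, ← Units.val_mul, inv_mul_cancel, Units.val_one,
    one_mulVec]

theorem cj_tr (A : GL ι F) (a φ : ι → F) (h : φ ⬝ᵥ a = 0) :
    cj A (tr a φ h) = tr ((A : Matrix ι ι F) *ᵥ a) (φ ᵥ* ((A⁻¹ : GL ι F) : Matrix ι ι F))
      (by rw [vecMul_inv_dotProduct, h]) := by
  apply Subtype.ext
  rw [coe_cj, coe_tr, coe_tr, mul_add, mul_one, add_mul, ← Units.val_mul, mul_inv_cancel,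
    Units.val_one, mul_vecMulVec, vecMulVec_mul]

/-- Field automorphisms acting on `SL`. -/
def fld : (F ≃+* F) →* MulAut (Matrix.SpecialLinearGroup ι F) where
  toFun σ :=
    { toFun := fun g => Matrix.SpecialLinearGroup.map (σ : F →+* F) g
      invFun := fun g => Matrix.SpecialLinearGroup.map (σ.symm : F →+* F) g
      left_inv := fun g => by
        apply Subtype.ext
        ext i j
        change σ.symm (σ (g.1 i j)) = g.1 i j
        exact σ.symm_apply_apply _
      right_inv := fun g => by
        apply Subtype.ext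
        ext i j
        change σ (σ.symm (g.1 i j)) = g.1 i j
        exact σ.apply_symm_apply _
      map_mul' := fun g h => map_mul _ g h }
  map_one' := by
    apply MulEquiv.ext
    intro g
    apply Subtype.ext
    ext i j
    rfl
  map_mul' σ τ := by
    apply MulEquiv.ext
    intro g
    apply Subtype.ext
    ext i j
    rfl

theorem coe_fld_apply (σ : F ≃+* F) (g : Matrix.SpecialLinearGroup ι F) (i j : ι) :
    (fld σ g : Matrix ι ι F) i j = σ ((g : Matrix ι ι F) i j) := rfl

theorem fld_transvection (σ : F ≃+* F) {i j : ι} (hij : i ≠ j) (c : F) :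
    fld σ (Matrix.SpecialLinearGroup.transvection hij c)
      = Matrix.SpecialLinearGroup.transvection hij (σ c) := by
  apply Subtype.ext
  ext r s
  rw [coe_fld_apply]
  change σ (((1 : Matrix ι ι F) + single i j c) r s) = ((1 : Matrix ι ι F) + single i j (σ c)) r s
  rw [Matrix.add_apply, Matrix.add_apply, map_add, one_apply, single_apply, single_apply]
  split_ifs <;> simp

/-- Inverse transpose. -/
def itr : MulAut (Matrix.SpecialLinearGroup ι F) :=
  { toFun := fun g => (g⁻¹).transpose
    invFun := fun g => (g⁻¹).transpose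
    left_inv := fun g => by
      apply Subtype.ext
      change (((g⁻¹).transpose)⁻¹ : Matrix.SpecialLinearGroup ι F).1ᵀ = g.1
      have h1 : ((g⁻¹).transpose)⁻¹ = g.transpose := by
        rw [inv_eq_iff_mul_eq_one]
        apply Subtype.ext
        change (g⁻¹ : Matrix.SpecialLinearGroup ι F).1ᵀ * g.1ᵀ = 1
        rw [← transpose_mul, ← Matrix.SpecialLinearGroup.coe_mul, mul_inv_cancel,
          Matrix.SpecialLinearGroup.coe_one, transpose_one]
      rw [h1]
      change (g.1ᵀ)ᵀ = g.1
      rw [transpose_transpose]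
    right_inv := fun g => by
      apply Subtype.ext
      change (((g⁻¹).transpose)⁻¹ : Matrix.SpecialLinearGroup ι F).1ᵀ = g.1
      have h1 : ((g⁻¹).transpose)⁻¹ = g.transpose := by
        rw [inv_eq_iff_mul_eq_one]
        apply Subtype.ext
        change (g⁻¹ : Matrix.SpecialLinearGroup ι F).1ᵀ * g.1ᵀ = 1
        rw [← transpose_mul, ← Matrix.SpecialLinearGroup.coe_mul, mul_inv_cancel,
          Matrix.SpecialLinearGroup.coe_one, transpose_one]
      rw [h1]
      change (g.1ᵀ)ᵀ = g.1
      rw [transpose_transpose]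
    map_mul' := fun g h => by
      apply Subtype.ext
      change (((g * h)⁻¹ : Matrix.SpecialLinearGroup ι F).1)ᵀ
        = ((g⁻¹ : Matrix.SpecialLinearGroup ι F).1)ᵀ * ((h⁻¹ : Matrix.SpecialLinearGroup ι F).1)ᵀ
      rw [_root_.mul_inv_rev, ← transpose_mul, ← Matrix.SpecialLinearGroup.coe_mul] }

theorem coe_itr (g : Matrix.SpecialLinearGroup ι F) :
    (itr g : Matrix ι ι F) = ((g⁻¹ : Matrix.SpecialLinearGroup ι F) : Matrix ι ι F)ᵀ := rfl

theorem itr_transvection {i j : ι} (hij : i ≠ j) (c : F) :
    itr (Matrix.SpecialLinearGroup.transvection hij c)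
      = Matrix.SpecialLinearGroup.transvection hij.symm (-c) := by
  apply Subtype.ext
  rw [coe_itr, Matrix.SpecialLinearGroup.transvection_inv]
  change ((1 : Matrix ι ι F) + single i j (-c))ᵀ = (1 : Matrix ι ι F) + single j i (-c)
  rw [transpose_add, transpose_one, transpose_single]

theorem itr_mul_itr : (itr * itr : MulAut (Matrix.SpecialLinearGroup ι F)) = 1 := by
  apply MulEquiv.ext
  intro g
  exact itr.symm_apply_apply g

/-- The automorphism of `PSL` induced by an automorphism of `SL`. -/
def lift : MulAut (Matrix.SpecialLinearGroup ι F) →*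
    MulAut (Matrix.ProjectiveSpecialLinearGroup ι F) where
  toFun e := QuotientGroup.congr _ _ e
    (Subgroup.characteristic_iff_map_eq.1 inferInstance e)
  map_one' := by
    apply MulEquiv.ext
    intro x
    obtain ⟨x, rfl⟩ := pr_surjective x
    rfl
  map_mul' e f := by
    apply MulEquiv.ext
    intro x
    obtain ⟨x, rfl⟩ := pr_surjective x
    rfl

theorem lift_pr (e : MulAut (Matrix.SpecialLinearGroup ι F)) (x : Matrix.SpecialLinearGroup ι F) :
    lift e (pr x) = pr (e x) := rfl

end Cfsg.Agent.ClassicalGeometry.AutPSL.Auto
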