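import Mathlib
import Cfsg.Agent.S0263
import Cfsg.Agent.ClassicalGeometry.AutPSL.Root
import Cfsg.Agent.ClassicalGeometry.AutPSL.Auto
import Cfsg.Agent.ClassicalGeometry.AutPSL.Frame
set_option linter.all false

/-!
The unitriangular subgroup is a Sylow subgroup of `PSL`; its centre is a root subgroup; hence
automorphisms of `PSL` permute the transvection groups.
-/

set_option autoImplicit false
set_option linter.unusedSectionVars false

namespace Cfsg.Agent.ClassicalGeometry.AutPSL.SylowU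

open Matrix
open Cfsg.Agent.ClassicalGeometry.AutPSL.Root
open Cfsg.Agent.ClassicalGeometry.AutPSL.Auto
open Cfsg.Agent.ClassicalGeometry.AutPSL.Frame

variable {F : Type*} [Field F]

/-- Upper unitriangular matrices, as a submonoid. -/
def upperM (n : ℕ) (F : Type*) [Field F] : Submonoid (Matrix.SpecialLinearGroup (Fin n) F) where
  carrier := {g | ∀ i j : Fin n, j ≤ i → (g : Matrix (Fin n) (Fin n) F) i j = if i = j then 1 else 0}
  mul_mem' {g h} hg hh := by
    intro i j hij
    rw [Matrix.SpecialLinearGroup.coe_mul, Matrix.mul_apply]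
    rw [Finset.sum_eq_single i]
    · rw [hg i i le_rfl, if_pos rfl, one_mul, hh i j hij]
    · intro k _ hk
      rcases lt_or_gt_of_ne hk with h1 | h1
      · rw [hg i k h1.le, if_neg (Ne.symm hk), zero_mul]
      · rw [hh k j (hij.trans h1.le), if_neg, mul_zero]
        rintro rfl
        exact absurd h1 (not_lt.2 hij)
    · intro h
      exact absurd (Finset.mem_univ _) h
  one_mem' := by
    intro i j _
    rw [Matrix.SpecialLinearGroup.coe_one, one_apply]

/-- Upper unitriangular matrices. -/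
def upper (n : ℕ) (F : Type*) [Field F] [Finite F] :
    Subgroup (Matrix.SpecialLinearGroup (Fin n) F) :=
  { upperM n F with
    inv_mem' := by
      intro g hg
      have h1 : g⁻¹ = g ^ (orderOf g - 1) := by
        rw [inv_eq_iff_mul_eq_one, ← pow_succ', Nat.sub_add_cancel (orderOf_pos g),
          pow_orderOf_eq_one]
      change g⁻¹ ∈ upperM n F
      rw [h1]
      exact Submonoid.pow_mem _ hg _ }

theorem mem_upper {n : ℕ} [Finite F] {g : Matrix.SpecialLinearGroup (Fin n) F} :
    g ∈ upper n F ↔ ∀ i j : Fin n, j ≤ i →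
      (g : Matrix (Fin n) (Fin n) F) i j = if i = j then 1 else 0 := Iff.rfl

/-- Parametrisation of the unitriangular group. -/
def upperEquiv (n : ℕ) (F : Type*) [Field F] [Finite F] :
    upper n F ≃ ({p : Fin n × Fin n // p.1 < p.2} → F) where
  toFun g p := (g : Matrix.SpecialLinearGroup (Fin n) F).1 p.1.1 p.1.2
  invFun f := ⟨⟨Matrix.of fun i j => if h : i < j then f ⟨(i, j), h⟩ else if i = j then 1 else 0, by
    rw [det_of_isUpperTriangular]
    · simp
    · intro i j hij
      have hij' : j < i := hij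
      rw [of_apply, dif_neg (not_lt.2 hij'.le), if_neg (ne_of_gt hij')]⟩, by
    intro i j hij
    change (Matrix.of fun i j => if h : i < j then f ⟨(i, j), h⟩ else if i = j then (1 : F) else 0)
      i j = _
    rw [of_apply, dif_neg (not_lt.2 hij)]⟩
  left_inv g := by
    apply Subtype.ext
    apply Subtype.ext
    ext i j
    change (if h : i < j then (g : Matrix.SpecialLinearGroup (Fin n) F).1 i j
      else if i = j then (1 : F) else 0) = _
    by_cases h : i < j
    · rw [dif_pos h]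
    · rw [dif_neg h]
      exact (g.2 i j (not_lt.1 h)).symm
  right_inv f := by
    funext p
    change (if h : p.1.1 < p.1.2 then f ⟨(p.1.1, p.1.2), h⟩
      else if p.1.1 = p.1.2 then (1 : F) else 0) = _
    rw [dif_pos p.2]

theorem card_pairs (n : ℕ) :
    Fintype.card {p : Fin n × Fin n // p.1 < p.2} = n * (n - 1) / 2 := by
  rw [Fintype.card_subtype, Finset.card_filter, Fintype.sum_prod_type_right]
  have h1 : ∀ j : Fin n, (∑ i : Fin n, if (i, j).1 < (i, j).2 then 1 else 0) = (j : ℕ) := by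
    intro j
    rw [← Finset.card_filter]
    have : (Finset.univ.filter fun i : Fin n => (i, j).1 < (i, j).2) = Finset.Iio j := by
      ext i
      simp
    rw [this, Fin.card_Iio]
  rw [Finset.sum_congr rfl fun j _ => h1 j, Fin.sum_univ_eq_sum_range (fun j => j),
    Finset.sum_range_id]

theorem card_upper (n : ℕ) [Fintype F] :
    Nat.card (upper n F) = Fintype.card F ^ (n * (n - 1) / 2) := by
  rw [Nat.card_congr (upperEquiv n F), Nat.card_fun, Nat.card_eq_fintype_card,
    Nat.card_eq_fintype_card, card_pairs]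

theorem eq_one_of_mem_upper_of_mem_center {n : ℕ} [Finite F]
    {g : Matrix.SpecialLinearGroup (Fin n) F} (hg : g ∈ upper n F)
    (hz : g ∈ Subgroup.center (Matrix.SpecialLinearGroup (Fin n) F)) : g = 1 := by
  obtain ⟨r, -, hr⟩ := Matrix.SpecialLinearGroup.mem_center_iff.1 hz
  apply Subtype.ext
  ext i j
  have h1 : r = 1 := by
    have := hg i i le_rfl
    rw [← hr, if_pos rfl, scalar_apply, diagonal_apply_eq] at this
    exact this
  rw [← hr, h1, map_one, Matrix.SpecialLinearGroup.coe_one]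

theorem pr_injOn_upper {n : ℕ} [Finite F] :
    Set.InjOn (pr : Matrix.SpecialLinearGroup (Fin n) F → _)
      (upper n F : Set (Matrix.SpecialLinearGroup (Fin n) F)) := by
  intro x hx y hy hxy
  have h1 : pr (x⁻¹ * y) = 1 := by
    rw [map_mul, map_inv, hxy, inv_mul_cancel]
  rw [pr_eq_one_iff] at h1
  have h2 := eq_one_of_mem_upper_of_mem_center
    (Subgroup.mul_mem _ (Subgroup.inv_mem _ hx) hy) h1
  exact (inv_mul_eq_one.1 h2)

theorem card_map_upper (n : ℕ) [Fintype F] :
    Nat.card ((upper n F).map pr) = Fintype.card F ^ (n * (n - 1) / 2) := by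
  rw [← card_upper n]
  exact Nat.card_image_of_injOn pr_injOn_upper

/-- The image of the unitriangular group is a Sylow subgroup of `PSL`. -/
theorem exists_sylow (n : ℕ) [Fintype F] (p : ℕ) [Fact p.Prime] [CharP F p] :
    ∃ S : Sylow p (Matrix.ProjectiveSpecialLinearGroup (Fin n) F),
      (S : Subgroup _) = (upper n F).map pr := by
  obtain ⟨k, hp, hk⟩ := FiniteField.card F p
  have hpg : IsPGroup p ((upper n F).map pr) := by
    apply IsPGroup.of_card (n := k * (n * (n - 1) / 2))
    rw [card_map_upper, hk, pow_mul]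
  obtain ⟨S, hS⟩ := hpg.exists_le_sylow
  refine ⟨S, (Subgroup.eq_of_le_of_card_ge hS ?_).symm⟩
  rw [card_map_upper]
  have : Finite (Matrix.SpecialLinearGroup (Fin n) F) := inferInstance
  obtain ⟨P⟩ : Nonempty (Sylow p (GL (Fin n) F)) := inferInstance
  have h1 := Cfsg.Agent.S0263.result (F := F) rfl p n P
  rw [← h1]
  have h2 : Nat.card S ∣ Nat.card (GL (Fin n) F) := by
    have e1 : Nat.card S ∣ Nat.card (Matrix.ProjectiveSpecialLinearGroup (Fin n) F) :=
      Subgroup.card_subgroup_dvd_card S.toSubgroup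
    have e2 : Nat.card (Matrix.ProjectiveSpecialLinearGroup (Fin n) F)
        ∣ Nat.card (Matrix.SpecialLinearGroup (Fin n) F) :=
      Subgroup.card_quotient_dvd_card _
    have e3 : Nat.card (Matrix.SpecialLinearGroup (Fin n) F) ∣ Nat.card (GL (Fin n) F) :=
      Subgroup.card_dvd_of_injective _ Matrix.SpecialLinearGroup.toGL_injective
    exact e1.trans (e2.trans e3)
  have h3 : Nat.card S = p ^ (Nat.card
      (Matrix.ProjectiveSpecialLinearGroup (Fin n) F)).factorization p :=
    Sylow.card_eq_multiplicity S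
  have h4 : Nat.card P = p ^ (Nat.card (GL (Fin n) F)).factorization p :=
    Sylow.card_eq_multiplicity P
  change Nat.card S ≤ Nat.card P
  rw [h3] at h2 ⊢
  rw [h4]
  apply Nat.pow_le_pow_right hp.pos
  exact (hp.pow_dvd_iff_le_factorization (Nat.card_pos).ne').1 h2

theorem transvection_mem_upper {n : ℕ} [Finite F] {i j : Fin n} (hij : i < j) (c : F) :
    Matrix.SpecialLinearGroup.transvection hij.ne c ∈ upper n F := by
  intro r s hrs
  change ((1 : Matrix (Fin n) (Fin n) F) + single i j c) r s = _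
  have hne : ¬ (i = r ∧ j = s) := by
    rintro ⟨rfl, rfl⟩
    exact absurd hij (not_lt.2 hrs)
  rw [Matrix.add_apply, one_apply, single_apply, if_neg hne, add_zero]

/-- The centre of the unitriangular group. -/
theorem eq_transvection_of_commute {n : ℕ} [Finite F] {i0 j0 : Fin n} (h0 : i0 < j0)
    (hi0 : ∀ i, i0 ≤ i) (hj0 : ∀ i, i ≤ j0)
    {z : Matrix.SpecialLinearGroup (Fin n) F} (hz : z ∈ upper n F)
    (hc : ∀ u ∈ upper n F, pr z * pr u = pr u * pr z) :
    ∃ c : F, z = Matrix.SpecialLinearGroup.transvection h0.ne c := by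
  -- exact commutation
  have hc' : ∀ u ∈ upper n F, z * u = u * z := by
    intro u hu
    have h1 := hc u hu
    rw [← map_mul, ← map_mul] at h1
    exact pr_injOn_upper (Subgroup.mul_mem _ hz hu) (Subgroup.mul_mem _ hu hz) h1
  have hE : ∀ i j : Fin n, i < j → ∀ r s : Fin n,
      (if j = s then z.1 r i else 0) = (if i = r then z.1 j s else 0) := by
    intro i j hij r s
    have h1 := congrArg Subtype.val (hc' _ (transvection_mem_upper hij (1 : F)))
    change z.1 * ((1 : Matrix (Fin n) (Fin n) F) + single i j 1)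
      = ((1 : Matrix (Fin n) (Fin n) F) + single i j 1) * z.1 at h1
    rw [mul_add, add_mul, mul_one, one_mul] at h1
    have h2' : z.1 * single i j (1 : F) = single i j (1 : F) * z.1 := add_left_cancel h1
    have h2 := congrFun (congrFun h2' r) s
    rw [Matrix.mul_apply, Matrix.mul_apply] at h2
    simp only [single_apply] at h2
    rw [Finset.sum_eq_single i, Finset.sum_eq_single j] at h2
    · by_cases h3 : j = s <;> by_cases h4 : i = r <;> simp [h3, h4] at h2 ⊢ <;> exact h2
    · intro b _ hb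
      rw [if_neg (by rintro ⟨-, h⟩; exact hb h.symm), zero_mul]
    · intro h; exact absurd (Finset.mem_univ _) h
    · intro b _ hb
      rw [if_neg (by rintro ⟨h, -⟩; exact hb h.symm), mul_zero]
    · intro h; exact absurd (Finset.mem_univ _) h
  refine ⟨z.1 i0 j0, ?_⟩
  apply Subtype.ext
  ext r s
  change z.1 r s = ((1 : Matrix (Fin n) (Fin n) F) + single i0 j0 (z.1 i0 j0)) r s
  rw [Matrix.add_apply, one_apply, single_apply]
  by_cases hrs : s ≤ r
  · have hne : ¬ (i0 = r ∧ j0 = s) := by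
      rintro ⟨rfl, rfl⟩
      exact absurd h0 (not_lt.2 hrs)
    rw [hz r s hrs, if_neg hne, add_zero]
  · rw [not_le] at hrs
    rw [if_neg hrs.ne, zero_add]
    by_cases hs : s = j0
    · by_cases hr : r = i0
      · rw [hs, hr, if_pos ⟨rfl, rfl⟩]
      · rw [if_neg (by rintro ⟨h, -⟩; exact hr h.symm)]
        have hr' : i0 < r := lt_of_le_of_ne (hi0 r) (Ne.symm hr)
        have := hE i0 r hr' i0 s
        rw [if_neg hrs.ne, if_pos rfl] at this
        exact this.symm
    · rw [if_neg (by rintro ⟨-, h⟩; exact hs h.symm)]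
      have hs' : s < j0 := lt_of_le_of_ne (hj0 s) hs
      have := hE s j0 hs' r j0
      rw [if_pos rfl, if_neg hrs.ne'] at this
      exact this

theorem central_transvection {n : ℕ} [Finite F] {i0 j0 : Fin n} (h0 : i0 < j0)
    (hi0 : ∀ i, i0 ≤ i) (hj0 : ∀ i, i ≤ j0) (c : F)
    {u : Matrix.SpecialLinearGroup (Fin n) F} (hu : u ∈ upper n F) :
    Matrix.SpecialLinearGroup.transvection h0.ne c * u
      = u * Matrix.SpecialLinearGroup.transvection h0.ne c := by
  apply Subtype.ext
  change ((1 : Matrix (Fin n) (Fin n) F) + single i0 j0 c) * u.1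
      = u.1 * ((1 : Matrix (Fin n) (Fin n) F) + single i0 j0 c)
  rw [mul_add, add_mul, mul_one, one_mul]
  congr 1
  ext r s
  rw [Matrix.mul_apply, Matrix.mul_apply]
  simp only [single_apply]
  rw [Finset.sum_eq_single j0, Finset.sum_eq_single i0]
  · rw [hu j0 s (hj0 s), hu r i0 (hi0 r)]
    by_cases h3 : j0 = s <;> by_cases h4 : i0 = r <;> simp [h3, h4, eq_comm]
  · intro b _ hb
    rw [if_neg (by rintro ⟨h, -⟩; exact hb h.symm), mul_zero]
  · intro h; exact absurd (Finset.mem_univ _) h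
  · intro b _ hb
    rw [if_neg (by rintro ⟨-, h⟩; exact hb h.symm), zero_mul]
  · intro h; exact absurd (Finset.mem_univ _) h

/-- Automorphisms of `PSL` map the standard long root group onto a conjugate. -/
theorem exists_conj_transvection {n : ℕ} [Fintype F] (p : ℕ) [Fact p.Prime] [CharP F p]
    {i0 j0 : Fin n} (h0 : i0 < j0) (hi0 : ∀ i, i0 ≤ i) (hj0 : ∀ i, i ≤ j0)
    (α : MulAut (Matrix.ProjectiveSpecialLinearGroup (Fin n) F)) :
    ∃ h : Matrix.SpecialLinearGroup (Fin n) F, ∀ t : F, ∃ s : F,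
      α (pr (Matrix.SpecialLinearGroup.transvection h0.ne t))
        = pr (h * Matrix.SpecialLinearGroup.transvection h0.ne s * h⁻¹) := by
  obtain ⟨S, hS⟩ := exists_sylow (F := F) n p
  obtain ⟨g, hg⟩ := MulAction.exists_smul_eq
    (Matrix.ProjectiveSpecialLinearGroup (Fin n) F) S (α • S)
  have hmem : ∀ x, α x ∈ ((α • S : Sylow p _) : Subgroup
      (Matrix.ProjectiveSpecialLinearGroup (Fin n) F)) ↔ x ∈ (S : Subgroup _) := by
    intro x
    rw [Sylow.pointwise_smul_def, Subgroup.mem_pointwise_smul_iff_inv_smul_mem]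
    have : α⁻¹ • α x = x := α.symm_apply_apply x
    rw [this]
  have hmem' : ∀ x, g * x * g⁻¹ ∈ ((g • S : Sylow p _) : Subgroup
      (Matrix.ProjectiveSpecialLinearGroup (Fin n) F)) ↔ x ∈ (S : Subgroup _) := by
    intro x
    rw [Sylow.coe_subgroup_smul, Subgroup.mem_pointwise_smul_iff_inv_smul_mem]
    have : (MulAut.conj g)⁻¹ • (g * x * g⁻¹) = x := (MulAut.conj g).symm_apply_apply x
    rw [this]
  obtain ⟨h, rfl⟩ := pr_surjective g
  refine ⟨h, fun t => ?_⟩
  set x := Matrix.SpecialLinearGroup.transvection h0.ne t with hx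
  have hxS : pr x ∈ (S : Subgroup _) := by
    rw [hS]
    exact ⟨x, transvection_mem_upper h0 t, rfl⟩
  have h1 : (pr h)⁻¹ * α (pr x) * pr h ∈ (S : Subgroup _) := by
    rw [← hmem', hg]
    have : pr h * ((pr h)⁻¹ * α (pr x) * pr h) * (pr h)⁻¹ = α (pr x) := by group
    rw [this, hmem]
    exact hxS
  have h2 := h1
  rw [hS] at h2
  obtain ⟨z, hz, hz'⟩ := h2
  obtain ⟨s, hs⟩ := eq_transvection_of_commute h0 hi0 hj0 hz (by
    intro u hu
    rw [hz']
    have hu1 : pr u ∈ (S : Subgroup _) := by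
      rw [hS]
      exact ⟨u, hu, rfl⟩
    have hu2 : pr h * pr u * (pr h)⁻¹ ∈ ((α • S : Sylow p _) : Subgroup _) := by
      rw [← hg, hmem']
      exact hu1
    obtain ⟨w, hw⟩ : ∃ w, α w = pr h * pr u * (pr h)⁻¹ := α.surjective _
    rw [← hw, hmem, hS] at hu2
    obtain ⟨v, hv, rfl⟩ := hu2
    have h3 : α (pr x) * α (pr v) = α (pr v) * α (pr x) := by
      rw [← map_mul, ← map_mul, ← map_mul, ← map_mul, hx, central_transvection h0 hi0 hj0 t hv]
    have h4 : pr u = (pr h)⁻¹ * α (pr v) * pr h := by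
      rw [hw]
      group
    rw [h4]
    calc (pr h)⁻¹ * α (pr x) * pr h * ((pr h)⁻¹ * α (pr v) * pr h)
        = (pr h)⁻¹ * (α (pr x) * α (pr v)) * pr h := by group
      _ = (pr h)⁻¹ * (α (pr v) * α (pr x)) * pr h := by rw [h3]
      _ = (pr h)⁻¹ * α (pr v) * pr h * ((pr h)⁻¹ * α (pr x) * pr h) := by group)
  refine ⟨s, ?_⟩
  rw [← hs, map_mul, map_mul, map_inv, hz']
  group

/-- Automorphisms of `PSL` permute the transvection groups. -/
theorem exists_map_tr {n : ℕ} [Fintype F] (p : ℕ) [Fact p.Prime] [CharP F p] (hn : 2 ≤ n)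
    (α : MulAut (Matrix.ProjectiveSpecialLinearGroup (Fin n) F)) {a φ : Fin n → F}
    (ha : a ≠ 0) (hφ : φ ≠ 0) (h : φ ⬝ᵥ a = 0) :
    ∃ b ψ : Fin n → F, b ≠ 0 ∧ ψ ≠ 0 ∧ ∃ _ : ψ ⬝ᵥ b = 0, ∀ t : F, ∃ s : F,
      α (pr (tr (t • a) φ (by rw [dotProduct_smul, h, smul_zero])))
        = pr (tr (s • b) ψ (by rw [dotProduct_smul, ‹ψ ⬝ᵥ b = 0›, smul_zero])) := by
  obtain ⟨m, rfl⟩ : ∃ m, n = m + 2 := ⟨n - 2, by omega⟩
  have h0 : (0 : Fin (m + 2)) < Fin.last (m + 1) := Fin.last_pos
  obtain ⟨A, hA1, hA2⟩ := exists_gl ha hφ h h0.ne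
  obtain ⟨k, hk⟩ := exists_conj_transvection p h0 (fun i => Fin.zero_le i) (fun i => Fin.le_last i)
    (α * lift (cj A))
  have hsingle : (Pi.single (Fin.last (m + 1)) 1 : Fin (m + 2) → F) ⬝ᵥ Pi.single 0 1 = 0 := by
    rw [single_dotProduct, Pi.single_eq_of_ne h0.ne', mul_zero]
  obtain ⟨K, hK⟩ : ∃ K : GL (Fin (m + 2)) F, K = Matrix.SpecialLinearGroup.toGL k := ⟨_, rfl⟩
  set e0 : Fin (m + 2) → F := Pi.single 0 1 with he0
  set e1 : Fin (m + 2) → F := Pi.single (Fin.last (m + 1)) 1 with he1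
  have hb : (e1 ᵥ* ((K⁻¹ : GL (Fin (m + 2)) F) : Matrix (Fin (m + 2)) (Fin (m + 2)) F)) ⬝ᵥ
      ((K : Matrix (Fin (m + 2)) (Fin (m + 2)) F) *ᵥ e0) = 0 := by
    rw [vecMul_inv_dotProduct, hsingle]
  refine ⟨(K : Matrix (Fin (m + 2)) (Fin (m + 2)) F) *ᵥ e0,
    e1 ᵥ* ((K⁻¹ : GL (Fin (m + 2)) F) : Matrix (Fin (m + 2)) (Fin (m + 2)) F), ?_, ?_, hb, ?_⟩
  · intro h1
    have h2 := congrArg (fun v =>
      ((K⁻¹ : GL (Fin (m + 2)) F) : Matrix (Fin (m + 2)) (Fin (m + 2)) F) *ᵥ v) h1
    simp only [mulVec_mulVec, mulVec_zero] at h2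
    rw [← Units.val_mul, inv_mul_cancel, Units.val_one, one_mulVec] at h2
    have h3 := congrFun h2 0
    rw [he0, Pi.single_eq_same] at h3
    exact one_ne_zero h3
  · intro h1
    have h2 := congrArg (fun v => v ᵥ*
      (K : Matrix (Fin (m + 2)) (Fin (m + 2)) F)) h1
    simp only [vecMul_vecMul, zero_vecMul] at h2
    rw [← Units.val_mul, inv_mul_cancel, Units.val_one, vecMul_one] at h2
    have h3 := congrFun h2 (Fin.last (m + 1))
    rw [he1, Pi.single_eq_same] at h3
    exact one_ne_zero h3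
  · intro t
    obtain ⟨s, hs⟩ := hk t
    refine ⟨s, ?_⟩
    have h1 : tr (t • a) φ (by rw [dotProduct_smul, h, smul_zero])
        = cj A (Matrix.SpecialLinearGroup.transvection h0.ne t) := by
      rw [transvection_eq_tr, cj_tr, tr_eq_iff, mulVec_smul, hA1, ← he1, ← hA2, vecMul_vecMul,
        ← Units.val_mul, mul_inv_cancel, Units.val_one, vecMul_one]
    have h2 : k * Matrix.SpecialLinearGroup.transvection h0.ne s * k⁻¹
        = tr (s • ((K : Matrix (Fin (m + 2)) (Fin (m + 2)) F) *ᵥ e0))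
          (e1 ᵥ* ((K⁻¹ : GL (Fin (m + 2)) F) : Matrix (Fin (m + 2)) (Fin (m + 2)) F))
          (by rw [dotProduct_smul, hb, smul_zero]) := by
      have h3 : k * Matrix.SpecialLinearGroup.transvection h0.ne s * k⁻¹
          = cj K (Matrix.SpecialLinearGroup.transvection h0.ne s) := by
        apply Subtype.ext
        rw [coe_cj, hK, ← map_inv]
        rfl
      rw [h3, transvection_eq_tr, cj_tr, tr_eq_iff, mulVec_smul]
    rw [h1, ← h2, ← hs]
    rfl

end Cfsg.Agent.ClassicalGeometry.AutPSL.SylowU
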